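import Mathlib

/-! # S4291: shared definitions

`G` a Frobenius complement ⇒ there is a unique normal subgroup `N` with all Sylow subgroups cyclic
such that `G/N` is `1`, `V₄`, `A₄`, `S₄`, `A₅` or `S₅`. -/

set_option autoImplicit false

namespace Cfsg.Agent.S4291L

universe u

/-- all Sylow subgroups of `N` are cyclic -/
def IsZ {G : Type u} [Group G] (N : Subgroup G) : Prop :=
  ∀ (p : ℕ) [Fact p.Prime] (P : Sylow p N), IsCyclic P

/-- `G / N ≅ Y`, phrased with a surjective homomorphism -/
def Quo {G : Type u} [Group G] (N : Subgroup G) (Y : Type) [Group Y] : Prop :=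
  ∃ f : G →* Y, Function.Surjective f ∧ f.ker = N

/-- the property of `N` in the statement S4291 -/
def Valid {G : Type u} [Group G] (N : Subgroup G) : Prop :=
  N.Normal ∧ IsZ N ∧
    (N = ⊤ ∨ Quo N (DihedralGroup 2) ∨ Quo N (alternatingGroup (Fin 4)) ∨
      Quo N (Equiv.Perm (Fin 4)) ∨ Quo N (alternatingGroup (Fin 5)) ∨ Quo N (Equiv.Perm (Fin 5)))

end Cfsg.Agent.S4291L
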