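import Mathlib
import Cfsg.Agent.Lib.S4291.Defs
import Cfsg.Agent.Lib.S3358.QXc

/-!
# S4291, solvable case (part A): two homomorphisms

* `quatToD2 m hm : QuaternionGroup m →* DihedralGroup 2` for even `m`, surjective with cyclic
  kernel;
* `q8_perm_hom`: a normal subgroup `T ≃* Q₈` containing its centralizer gives
  `f : X →* Perm (Fin 4)` with kernel `C_X(T)` of order at most `2`.
-/

set_option autoImplicit false

namespace Cfsg.Agent.S4291L

universe u

open QuaternionGroup

/-- the reduction `ZMod (2 * m) →+* ZMod 2` -/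
abbrev redTwo (m : ℕ) : ZMod (2 * m) →+* ZMod 2 := ZMod.castHom (dvd_mul_right 2 m) (ZMod 2)

theorem redTwo_natCast_self (m : ℕ) (hm : 2 ∣ m) : redTwo m (m : ZMod (2 * m)) = 0 := by
  rw [map_natCast]
  exact (ZMod.natCast_eq_zero_iff m 2).2 hm

/-- the canonical map `QuaternionGroup m → DihedralGroup 2` for even `m` -/
def quatToD2 (m : ℕ) (hm : 2 ∣ m) : QuaternionGroup m →* DihedralGroup 2 where
  toFun := fun q => match q with
    | .a i => DihedralGroup.r (redTwo m i)
    | .xa i => DihedralGroup.sr (redTwo m i)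
  map_one' := by
    show DihedralGroup.r (redTwo m 0) = 1
    rw [map_zero]
    rfl
  map_mul' := by
    rintro (i | i) (j | j)
    · show (match (QuaternionGroup.a i * QuaternionGroup.a j : QuaternionGroup m) with
        | .a i => DihedralGroup.r (redTwo m i) | .xa i => DihedralGroup.sr (redTwo m i)) =
          DihedralGroup.r (redTwo m i) * DihedralGroup.r (redTwo m j)
      rw [QuaternionGroup.a_mul_a]
      show DihedralGroup.r (redTwo m (i + j)) = _
      rw [DihedralGroup.r_mul_r, map_add]
    · show (match (QuaternionGroup.a i * QuaternionGroup.xa j : QuaternionGroup m) with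
        | .a i => DihedralGroup.r (redTwo m i) | .xa i => DihedralGroup.sr (redTwo m i)) =
          DihedralGroup.r (redTwo m i) * DihedralGroup.sr (redTwo m j)
      rw [QuaternionGroup.a_mul_xa]
      show DihedralGroup.sr (redTwo m (j - i)) = _
      rw [DihedralGroup.r_mul_sr, map_sub]
    · show (match (QuaternionGroup.xa i * QuaternionGroup.a j : QuaternionGroup m) with
        | .a i => DihedralGroup.r (redTwo m i) | .xa i => DihedralGroup.sr (redTwo m i)) =
          DihedralGroup.sr (redTwo m i) * DihedralGroup.r (redTwo m j)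
      rw [QuaternionGroup.xa_mul_a]
      show DihedralGroup.sr (redTwo m (i + j)) = _
      rw [DihedralGroup.sr_mul_r, map_add]
    · show (match (QuaternionGroup.xa i * QuaternionGroup.xa j : QuaternionGroup m) with
        | .a i => DihedralGroup.r (redTwo m i) | .xa i => DihedralGroup.sr (redTwo m i)) =
          DihedralGroup.sr (redTwo m i) * DihedralGroup.sr (redTwo m j)
      rw [QuaternionGroup.xa_mul_xa]
      show DihedralGroup.r (redTwo m (↑m + j - i)) = _
      rw [DihedralGroup.sr_mul_sr, map_sub, map_add, redTwo_natCast_self m hm, zero_add]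

theorem quatToD2_a (m : ℕ) (hm : 2 ∣ m) (i : ZMod (2 * m)) :
    quatToD2 m hm (QuaternionGroup.a i) = DihedralGroup.r (redTwo m i) := rfl

theorem quatToD2_xa (m : ℕ) (hm : 2 ∣ m) (i : ZMod (2 * m)) :
    quatToD2 m hm (QuaternionGroup.xa i) = DihedralGroup.sr (redTwo m i) := rfl

theorem quatToD2_surjective (m : ℕ) (hm : 2 ∣ m) : Function.Surjective (quatToD2 m hm) := by
  have hs : Function.Surjective (redTwo m) := ZMod.castHom_surjective _
  rintro (k | k)
  · obtain ⟨i, rfl⟩ := hs k
    exact ⟨QuaternionGroup.a i, rfl⟩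
  · obtain ⟨i, rfl⟩ := hs k
    exact ⟨QuaternionGroup.xa i, rfl⟩

theorem quatToD2_ker_le (m : ℕ) [NeZero m] (hm : 2 ∣ m) :
    (quatToD2 m hm).ker ≤ Subgroup.zpowers (QuaternionGroup.a 1 : QuaternionGroup m) := by
  intro q hq
  rw [MonoidHom.mem_ker] at hq
  rcases q with i | i
  · rw [Subgroup.mem_zpowers_iff]
    refine ⟨(i.val : ℤ), ?_⟩
    rw [zpow_natCast, QuaternionGroup.a_one_pow, ZMod.natCast_zmod_val]
  · exfalso
    rw [quatToD2_xa] at hq
    have h1 : (1 : DihedralGroup 2) = DihedralGroup.r 0 := rfl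
    rw [h1] at hq
    cases hq

theorem quatToD2_ker_isCyclic (m : ℕ) [NeZero m] (hm : 2 ∣ m) : IsCyclic (quatToD2 m hm).ker :=
  Subgroup.isCyclic_of_le (quatToD2_ker_le m hm)

open Cfsg.Agent.S3358L in
/-- the `Q₈` case: the action on the four "diagonals" -/
theorem q8_perm_hom {X : Type u} [Group X] [Finite X] (T : Subgroup X) [T.Normal]
    (e : T ≃* QuaternionGroup 2) (hC : Subgroup.centralizer (T : Set X) ≤ T) :
    ∃ f : X →* Equiv.Perm (Fin 4), f.ker = Subgroup.centralizer (T : Set X) ∧
      Nat.card (Subgroup.centralizer (T : Set X)) ≤ 2 := by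
  let ψ : X →* MulAut T := MulAut.conjNormal
  let f : X →* Equiv.Perm (Fin 4) := QXc_iota.comp ((MulAut.congr e).toMonoidHom.comp ψ)
  have hψ : ∀ g : X, ψ g = 1 ↔ g ∈ Subgroup.centralizer (T : Set X) := by
    intro g
    rw [Subgroup.mem_centralizer_iff]
    constructor
    · intro h2 t ht
      have h3 : ((ψ g ⟨t, ht⟩ : T) : X) = t := by rw [h2]; rfl
      rw [MulAut.conjNormal_apply] at h3
      have : g * t = t * g := by
        calc g * t = g * t * g⁻¹ * g := by group
          _ = t * g := by rw [h3]
      exact this.symm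
    · intro hg
      ext t
      rw [MulAut.conjNormal_apply, MulAut.one_apply]
      have := hg t t.2
      calc g * (t : X) * g⁻¹ = (t : X) * g * g⁻¹ := by rw [this]
        _ = t := by group
  have hker : f.ker = Subgroup.centralizer (T : Set X) := by
    ext g
    rw [MonoidHom.mem_ker, ← hψ]
    constructor
    · intro hg
      have h1 : (MulAut.congr e) (ψ g) = 1 := QXc_iota_inj (by rw [map_one]; exact hg)
      exact (MulAut.congr e).injective (by rw [h1, map_one])
    · intro hg
      show QXc_iota ((MulAut.congr e) (ψ g)) = 1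
      rw [hg, map_one, map_one]
  refine ⟨f, hker, ?_⟩
  set Z := Subgroup.centralizer (T : Set X) with hZ
  have hval : ∀ g : Z, e ⟨(g : X), hC g.2⟩ = 1 ∨ e ⟨(g : X), hC g.2⟩ = a 2 := by
    intro g
    apply QXc_center
    intro h
    obtain ⟨t, rfl⟩ := e.surjective h
    rw [← map_mul, ← map_mul]
    congr 1
    apply Subtype.ext
    show (g : X) * (t : X) = (t : X) * (g : X)
    exact ((Subgroup.mem_centralizer_iff.mp g.2) t t.2).symm
  have hinj : Function.Injective (fun g : Z => decide (e ⟨(g : X), hC g.2⟩ = 1)) := by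
    intro g g' hgg
    have hgg' : (e ⟨(g : X), hC g.2⟩ = 1) ↔ (e ⟨(g' : X), hC g'.2⟩ = 1) := by
      simpa using hgg
    have : e ⟨(g : X), hC g.2⟩ = e ⟨(g' : X), hC g'.2⟩ := by
      rcases hval g with h1 | h1
      · rw [h1, hgg'.mp h1]
      · rcases hval g' with h2 | h2
        · have := hgg'.mpr h2
          rw [this, h2]
        · rw [h1, h2]
    have h3 := e.injective this
    apply Subtype.ext
    exact congrArg (fun t : T => (t : X)) h3
  have := Nat.card_le_card_of_injective _ hinj
  simpa using this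

end Cfsg.Agent.S4291L
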