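import Mathlib
import Cfsg.Agent.Lib.S4291.SolvA
import Cfsg.Agent.Lib.S3358.QL

/-!
# S4291, solvable case (part B): existence of a valid `N` in a solvable `PU`-group
-/

set_option autoImplicit false
set_option linter.style.haveILetI false

namespace Cfsg.Agent.S4291L

universe u

open Cfsg.Agent.S3358L

/-- pull-back of a cyclic subgroup of `G ⧸ K`, `K` of odd order, is a `Z`-group -/
theorem solv_isZ_comap {G : Type u} [Group G] [Finite G] (hU : PU G) (K : Subgroup G) [K.Normal]
    (hK : Odd (Nat.card K)) (X₀ : Subgroup (G ⧸ K)) (hc : IsCyclic X₀) :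
    IsZ (X₀.comap (QuotientGroup.mk' K)) := by
  intro p hp P
  have hKcop : (Nat.card K).Coprime 2 := (Nat.coprime_two_left.mpr hK).symm
  by_cases hp2 : p = 2
  · subst hp2
    let φ : (P : Subgroup (X₀.comap (QuotientGroup.mk' K))) →* X₀ :=
      { toFun := fun x => ⟨QuotientGroup.mk' K ((x : X₀.comap (QuotientGroup.mk' K)) : G),
          (x : X₀.comap (QuotientGroup.mk' K)).2⟩
        map_one' := by
          apply Subtype.ext
          simp
        map_mul' := by
          intro a b
          apply Subtype.ext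
          simp }
    have hφinj : Function.Injective φ := by
      rw [injective_iff_map_eq_one]
      intro x hx
      have h1 : QuotientGroup.mk' K ((x : X₀.comap (QuotientGroup.mk' K)) : G) = 1 := by
        have := congrArg Subtype.val hx
        simpa [φ] using this
      have hxK : ((x : X₀.comap (QuotientGroup.mk' K)) : G) ∈ K :=
        (QuotientGroup.eq_one_iff _).mp h1
      obtain ⟨j, hj⟩ := P.isPGroup' x
      have hj' : (((x : X₀.comap (QuotientGroup.mk' K)) : G)) ^ 2 ^ j = 1 := by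
        have := congrArg
          (fun z : (P : Subgroup (X₀.comap (QuotientGroup.mk' K))) =>
            ((z : X₀.comap (QuotientGroup.mk' K)) : G)) hj
        simpa using this
      have hd1 : orderOf (((x : X₀.comap (QuotientGroup.mk' K)) : G)) ∣ 2 ^ j :=
        orderOf_dvd_of_pow_eq_one hj'
      have hd2 : orderOf (((x : X₀.comap (QuotientGroup.mk' K)) : G)) ∣ Nat.card K := by
        have := orderOf_dvd_natCard (⟨_, hxK⟩ : K)
        rwa [Subgroup.orderOf_mk] at this
      have hcop : Nat.Coprime (2 ^ j) (Nat.card K) := Nat.Coprime.pow_left j hKcop.symm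
      have h1' : orderOf (((x : X₀.comap (QuotientGroup.mk' K)) : G)) = 1 :=
        Nat.eq_one_of_dvd_coprimes hcop hd1 hd2
      have : ((x : X₀.comap (QuotientGroup.mk' K)) : G) = 1 := orderOf_eq_one_iff.mp h1'
      apply Subtype.ext
      apply Subtype.ext
      simpa using this
    haveI := hc
    exact isCyclic_of_injective φ hφinj
  · let P' : Subgroup G :=
      ((P : Subgroup (X₀.comap (QuotientGroup.mk' K)))).map (X₀.comap (QuotientGroup.mk' K)).subtype
    have hP' : IsPGroup p P' := P.isPGroup'.map _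
    have e : (P : Subgroup (X₀.comap (QuotientGroup.mk' K))) ≃* P' :=
      Subgroup.equivMapOfInjective _ _ (Subgroup.subtype_injective _)
    rcases U1_pgroup hU p P' hP' with hc' | ⟨h2', -⟩
    · exact isCyclic_of_surjective e.symm.toMonoidHom e.symm.surjective
    · exact absurd h2' hp2

/-- the possible quotients of a `2`-group with `PU` -/
theorem solv_two_group {X : Type u} [Group X] [Finite X] (hX : IsPGroup 2 X) (hU : PU X) :
    ∃ X₀ : Subgroup X, IsCyclic X₀ ∧
      (X₀ = ⊤ ∨ ∃ f : X →* DihedralGroup 2, Function.Surjective f ∧ f.ker = X₀) := by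
  haveI : Fact (Nat.Prime 2) := ⟨Nat.prime_two⟩
  rcases U1_pgroup hU 2 (⊤ : Subgroup X) (hX.to_subgroup ⊤) with h | ⟨-, n, ⟨e⟩⟩
  · exact ⟨⊤, h, Or.inl rfl⟩
  · rcases Nat.eq_zero_or_pos n with hn | hn
    · subst hn
      have hcyc1 : IsCyclic (QuaternionGroup (2 ^ 0)) := by
        rw [pow_zero]; exact QuaternionGroup.quaternionGroup_one_isCyclic
      have : IsCyclic (⊤ : Subgroup X) :=
        isCyclic_of_surjective e.symm.toMonoidHom e.symm.surjective
      exact ⟨⊤, this, Or.inl rfl⟩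
    · haveI : NeZero (2 ^ n) := ⟨pow_ne_zero n two_ne_zero⟩
      have h2 : 2 ∣ 2 ^ n := dvd_pow_self 2 hn.ne'
      let e' : X ≃* QuaternionGroup (2 ^ n) := (Subgroup.topEquiv (G := X)).symm.trans e
      let f : X →* DihedralGroup 2 := (quatToD2 (2 ^ n) h2).comp e'.toMonoidHom
      have hfs : Function.Surjective f := (quatToD2_surjective (2 ^ n) h2).comp e'.surjective
      have hle : f.ker ≤ Subgroup.zpowers (e'.symm (QuaternionGroup.a 1)) := by
        intro x hx
        have h1 : e' x ∈ (quatToD2 (2 ^ n) h2).ker := hx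
        have h2' := quatToD2_ker_le (2 ^ n) h2 h1
        rw [Subgroup.mem_zpowers_iff] at h2' ⊢
        obtain ⟨k, hk⟩ := h2'
        refine ⟨k, ?_⟩
        rw [← map_zpow, hk, MulEquiv.symm_apply_apply]
      exact ⟨f.ker, Subgroup.isCyclic_of_le hle, Or.inr ⟨f, hfs, rfl⟩⟩

/-- the possible quotients of a solvable `PU`-group without normal subgroups of odd order -/
theorem solv_quotient_cases {X : Type u} [Group X] [Finite X] (hs : Group.IsSolvable X) (hU : PU X)
    (hO : Cfsg.pPrimeCore 2 X = ⊥) :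
    ∃ X₀ : Subgroup X, IsCyclic X₀ ∧
      (X₀ = ⊤ ∨ (∃ f : X →* DihedralGroup 2, Function.Surjective f ∧ f.ker = X₀) ∨
        (∃ f : X →* alternatingGroup (Fin 4), Function.Surjective f ∧ f.ker = X₀) ∨
        (∃ f : X →* Equiv.Perm (Fin 4), Function.Surjective f ∧ f.ker = X₀)) := by
  haveI : Fact (Nat.Prime 2) := ⟨Nat.prime_two⟩
  have htg : IsPGroup 2 X → ∃ X₀ : Subgroup X, IsCyclic X₀ ∧
      (X₀ = ⊤ ∨ (∃ f : X →* DihedralGroup 2, Function.Surjective f ∧ f.ker = X₀) ∨
        (∃ f : X →* alternatingGroup (Fin 4), Function.Surjective f ∧ f.ker = X₀) ∨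
        (∃ f : X →* Equiv.Perm (Fin 4), Function.Surjective f ∧ f.ker = X₀)) := by
    intro hX2
    obtain ⟨X₀, hc, h⟩ := solv_two_group hX2 hU
    rcases h with h | h
    · exact ⟨X₀, hc, Or.inl h⟩
    · exact ⟨X₀, hc, Or.inr (Or.inl h)⟩
  by_cases hX2 : IsPGroup 2 X
  · exact htg hX2
  set T := Cfsg.pCore 2 X with hTdef
  haveI hTn : T.Normal := Cfsg.Agent.H1.pCore_normal 2
  have hT2 : IsPGroup 2 T := Cfsg.Agent.H1.pCore_isPGroup 2
  have hC : Subgroup.centralizer (T : Set X) ≤ T :=
    Cfsg.Agent.H2.QPrimeCoprime.centralizer_pCore_le_of_isSolvable 2 hs hO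
  have hcase := U1_pgroup hU 2 T hT2
  have htwo : (IsCyclic T ∨ ∃ k : ℕ, 2 ≤ k ∧ Nonempty (T ≃* QuaternionGroup (2 ^ k))) → False := by
    intro hT
    apply hX2
    apply QX_isPGroup_two_of_no_odd
    intro g hg
    have hcen : g ∈ Subgroup.centralizer (T : Set X) := by
      rw [Subgroup.mem_centralizer_iff]
      intro t ht
      exact (QXa_centralizes T hT hT2 g hg t ht).symm
    have hgT : g ∈ T := hC hcen
    obtain ⟨j, hj⟩ := hT2 ⟨g, hgT⟩
    have hj' : g ^ 2 ^ j = 1 := by
      have := congrArg Subtype.val hj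
      simpa using this
    have hdvd : orderOf g ∣ 2 ^ j := orderOf_dvd_of_pow_eq_one hj'
    have hodd1 : orderOf g = 1 := by
      have hcop : Nat.Coprime (orderOf g) (2 ^ j) :=
        Nat.Coprime.pow_right j (Nat.Coprime.symm (Nat.coprime_two_left.mpr hg))
      exact Nat.Coprime.eq_one_of_dvd hcop hdvd
    exact orderOf_eq_one_iff.mp hodd1
  rcases hcase with hcyc | ⟨-, n, ⟨e⟩⟩
  · exact (htwo (Or.inl hcyc)).elim
  rcases Nat.lt_or_ge n 1 with hn0 | hn1
  · have hn : n = 0 := by omega
    subst hn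
    have hcyc1 : IsCyclic (QuaternionGroup (2 ^ 0)) := by
      rw [pow_zero]; exact QuaternionGroup.quaternionGroup_one_isCyclic
    have : IsCyclic T := isCyclic_of_surjective e.symm.toMonoidHom e.symm.surjective
    exact (htwo (Or.inl this)).elim
  rcases Nat.lt_or_ge n 2 with hn2 | hn2
  swap
  · exact (htwo (Or.inr ⟨n, hn2, ⟨e⟩⟩)).elim
  have hn : n = 1 := by omega
  subst hn
  rw [pow_one] at e
  obtain ⟨f, hker, hcard⟩ := q8_perm_hom T e hC
  -- numerics
  have hT8 : Nat.card T = 8 := by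
    rw [Nat.card_congr e.toEquiv, Nat.card_eq_fintype_card, QuaternionGroup.card]
  have h8X : 8 ∣ Nat.card X := hT8 ▸ Subgroup.card_subgroup_dvd_card T
  have hmul : Nat.card f.ker * Nat.card f.range = Nat.card X := by
    rw [← Subgroup.index_ker]
    exact Subgroup.card_mul_index f.ker
  have hperm : Nat.card (Equiv.Perm (Fin 4)) = 24 := by
    rw [Nat.card_perm, Nat.card_fin]
    rfl
  have hr24 : Nat.card f.range ∣ 24 := by
    have := Subgroup.card_subgroup_dvd_card f.range
    rwa [hperm] at this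
  have hnot : ∀ k : ℕ, Nat.card X ≠ 2 ^ k := by
    intro k hk
    exact hX2 (IsPGroup.of_card hk)
  have hk1 : 0 < Nat.card f.ker := Nat.card_pos
  have hk2 : Nat.card f.ker ≤ 2 := hker ▸ hcard
  have hkcyc : IsCyclic f.ker := by
    have h12 : Nat.card f.ker = 1 ∨ Nat.card f.ker = 2 := by omega
    rcases h12 with h1 | h2
    · have : Subsingleton f.ker := (Nat.card_eq_one_iff_unique.mp h1).1
      exact isCyclic_of_subsingleton
    · exact isCyclic_of_prime_card h2
  have hrange : Nat.card f.range = 12 ∨ Nat.card f.range = 24 := by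
    have h3 := hnot 3
    have h4 := hnot 4
    have hle : Nat.card f.range ≤ 24 := Nat.le_of_dvd (by norm_num) hr24
    have hpos : 0 < Nat.card f.range := Nat.card_pos
    have h12 : Nat.card f.ker = 1 ∨ Nat.card f.ker = 2 := by omega
    rcases h12 with h1 | h2
    · rw [h1, one_mul] at hmul
      rw [← hmul] at h8X h3 h4
      interval_cases h : Nat.card f.range <;> omega
    · rw [h2] at hmul
      rw [← hmul] at h8X h3 h4
      interval_cases h : Nat.card f.range <;> omega
  rcases hrange with h12 | h24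
  · -- the alternating group
    have hidx : f.range.index = 2 := by
      have := Subgroup.card_mul_index f.range
      rw [h12, hperm] at this
      omega
    have hrA := Equiv.Perm.eq_alternatingGroup_of_index_eq_two hidx
    have hmem : ∀ x : X, f x ∈ alternatingGroup (Fin 4) := by
      intro x
      rw [← hrA]
      exact ⟨x, rfl⟩
    refine ⟨f.ker, hkcyc, Or.inr (Or.inr (Or.inl
      ⟨f.codRestrict (alternatingGroup (Fin 4)) hmem, ?_, MonoidHom.ker_codRestrict _ _ _⟩))⟩
    rintro ⟨y, hy⟩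
    rw [← hrA] at hy
    obtain ⟨x, rfl⟩ := hy
    exact ⟨x, rfl⟩
  · have htop : f.range = ⊤ := by
      apply Subgroup.eq_top_of_card_eq
      rw [h24, hperm]
    exact ⟨f.ker, hkcyc, Or.inr (Or.inr (Or.inr ⟨f, MonoidHom.range_eq_top.1 htop, rfl⟩))⟩

/-- **(B-solv)** a solvable `PU`-group has a valid normal subgroup -/
theorem exists_valid_of_solvable {G : Type u} [Group G] [Finite G] (hs : Group.IsSolvable G)
    (hU : PU G) : ∃ N : Subgroup G, Valid N := by
  haveI : Fact (Nat.Prime 2) := ⟨Nat.prime_two⟩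
  set K := Cfsg.pPrimeCore 2 G with hKdef
  haveI hKn : K.Normal := Cfsg.Agent.H1.pPrimeCore_normal 2
  have hKcop : (Nat.card K).Coprime 2 := Cfsg.Agent.H1.pPrimeCore_coprime 2
  have hKodd : Odd (Nat.card K) := Nat.coprime_two_left.mp hKcop.symm
  have hO : Cfsg.pPrimeCore 2 (G ⧸ K) = ⊥ := Cfsg.Agent.H2.pPrimeCore_quotient_eq_bot 2
  haveI := hs
  have hsX : Group.IsSolvable (G ⧸ K) := inferInstance
  have hUX : PU (G ⧸ K) := U2_quotient hU K hKodd
  obtain ⟨X₀, hc, hcases⟩ := solv_quotient_cases hsX hUX hO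
  have hZ : IsZ (X₀.comap (QuotientGroup.mk' K)) := solv_isZ_comap hU K hKodd X₀ hc
  have hπ : Function.Surjective (QuotientGroup.mk' K) := QuotientGroup.mk'_surjective K
  have hquo : ∀ {Y : Type} [Group Y] (f : G ⧸ K →* Y), Function.Surjective f → f.ker = X₀ →
      (X₀.comap (QuotientGroup.mk' K)).Normal ∧ Quo (X₀.comap (QuotientGroup.mk' K)) Y := by
    intro Y _ f hf hk
    have hk' : (f.comp (QuotientGroup.mk' K)).ker = X₀.comap (QuotientGroup.mk' K) := by
      rw [← MonoidHom.comap_ker, hk]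
    refine ⟨hk' ▸ MonoidHom.normal_ker _, f.comp (QuotientGroup.mk' K), hf.comp hπ, hk'⟩
  refine ⟨X₀.comap (QuotientGroup.mk' K), ?_⟩
  rcases hcases with h | ⟨f, hf, hk⟩ | ⟨f, hf, hk⟩ | ⟨f, hf, hk⟩
  · have htop : X₀.comap (QuotientGroup.mk' K) = ⊤ := by rw [h, Subgroup.comap_top]
    refine ⟨?_, hZ, Or.inl htop⟩
    rw [htop]
    infer_instance
  · obtain ⟨hn, hq⟩ := hquo f hf hk
    exact ⟨hn, hZ, Or.inr (Or.inl hq)⟩
  · obtain ⟨hn, hq⟩ := hquo f hf hk
    exact ⟨hn, hZ, Or.inr (Or.inr (Or.inl hq))⟩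
  · obtain ⟨hn, hq⟩ := hquo f hf hk
    exact ⟨hn, hZ, Or.inr (Or.inr (Or.inr (Or.inl hq)))⟩

end Cfsg.Agent.S4291L
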