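import Mathlib
import Cfsg.Agent.Lib.S4291.Defs

/-! # S4291 (A): uniqueness — abstract lemmas on normal Z-subgroups (helper8) -/

set_option autoImplicit false

namespace Cfsg.Agent.S4291L

universe u

/-- `IsZ N` is Mathlib's `IsZGroup ↥N` -/
theorem isZ_iff {G : Type u} [Group G] (N : Subgroup G) : IsZ N ↔ IsZGroup N := by
  rw [isZGroup_iff]
  constructor
  · intro h p hp P
    have : Fact p.Prime := ⟨hp⟩
    exact h p P
  · intro h p hp P
    exact h p hp.out P

/-- every normal Z-subgroup of `Y` is trivial -/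
def BigY (Y : Type u) [Group Y] : Prop :=
  ∀ H : Subgroup Y, H.Normal → IsZGroup H → H = ⊥

/-- a `2`-group of exponent two which is a Z-group has at most two elements -/
theorem card_le_two_of_exp_two {K : Type u} [Group K] [Finite K] [IsZGroup K]
    (h2 : ∀ k : K, k * k = 1) : ∀ a b : K, a ≠ 1 → b ≠ 1 → a = b := by
  classical
  have hp : IsPGroup 2 K := by
    intro k
    refine ⟨1, ?_⟩
    rw [pow_one, sq]
    exact h2 k
  have : Fact (Nat.Prime 2) := ⟨Nat.prime_two⟩
  have hcyc : IsCyclic (⊤ : Subgroup K) := IsPGroup.isCyclic_of_isZGroup (hp.to_subgroup ⊤)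
  have hcycK : IsCyclic K := isCyclic_of_surjective _ (Subgroup.topEquiv (G := K)).surjective
  obtain ⟨g, hg⟩ := hcycK.exists_generator
  intro a b ha hb
  obtain ⟨i, rfl⟩ := Subgroup.mem_zpowers_iff.mp (hg a)
  obtain ⟨j, rfl⟩ := Subgroup.mem_zpowers_iff.mp (hg b)
  have hg2 : g ^ (2 : ℤ) = 1 := by
    rw [zpow_two]; exact h2 g
  have hpar : ∀ i : ℤ, g ^ i ≠ 1 → g ^ i = g := by
    intro i hi
    rcases Int.even_or_odd i with ⟨k, hk⟩ | ⟨k, hk⟩
    · exfalso
      apply hi
      rw [hk, ← two_mul, zpow_mul, hg2, one_zpow]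
    · rw [hk, zpow_add, zpow_mul, hg2, one_zpow, one_mul, zpow_one]
  rw [hpar i ha, hpar j hb]

/-- base case: commutators lie in a normal subgroup of exponent two and the centre is trivial -/
theorem bigY_of_exp_two {Y : Type u} [Group Y] [Finite Y] (V : Subgroup Y) [hV : V.Normal]
    (hexp : ∀ v ∈ V, v * v = 1) (hcomm : ∀ g h : Y, g * h * g⁻¹ * h⁻¹ ∈ V)
    (hcen : Subgroup.center Y = ⊥) : BigY Y := by
  intro H hH hZ
  -- `K = H ⊓ V` has at most two elements
  have hK : ∀ a ∈ H ⊓ V, ∀ b ∈ H ⊓ V, a ≠ 1 → b ≠ 1 → a = b := by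
    intro a ha b hb ha1 hb1
    have : IsZGroup ↥(H ⊓ V) :=
      IsZGroup.of_injective (f := Subgroup.inclusion (inf_le_left : H ⊓ V ≤ H))
        (Subgroup.inclusion_injective _)
    have h2 : ∀ k : ↥(H ⊓ V), k * k = 1 := by
      intro k
      apply Subtype.ext
      exact hexp k.1 k.2.2
    have := card_le_two_of_exp_two h2 ⟨a, ha⟩ ⟨b, hb⟩
      (fun h => ha1 (congrArg Subtype.val h)) (fun h => hb1 (congrArg Subtype.val h))
    exact congrArg Subtype.val this
  -- `K` is central, hence trivial
  have hKbot : ∀ a ∈ H ⊓ V, a = 1 := by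
    intro a ha
    by_contra ha1
    have hcenA : a ∈ Subgroup.center Y := by
      rw [Subgroup.mem_center_iff]
      intro g
      have hconj : g * a * g⁻¹ ∈ H ⊓ V :=
        ⟨hH.conj_mem a ha.1 g, hV.conj_mem a ha.2 g⟩
      have hne : g * a * g⁻¹ ≠ 1 := by
        intro h
        apply ha1
        have : a = g⁻¹ * (g * a * g⁻¹) * g := by group
        rw [this, h]; group
      have := hK _ hconj a ha hne ha1
      calc g * a = (g * a * g⁻¹) * g := by group
        _ = a * g := by rw [this]
    rw [hcen, Subgroup.mem_bot] at hcenA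
    exact ha1 hcenA
  -- `H` is central
  rw [eq_bot_iff]
  intro h hh
  have hcenH : h ∈ Subgroup.center Y := by
    rw [Subgroup.mem_center_iff]
    intro g
    have h1 : g * h * g⁻¹ * h⁻¹ ∈ H ⊓ V :=
      ⟨H.mul_mem (hH.conj_mem h hh g) (H.inv_mem hh), hcomm g h⟩
    have h2 := hKbot _ h1
    calc g * h = (g * h * g⁻¹ * h⁻¹) * h * g := by group
      _ = h * g := by rw [h2, one_mul]
  rw [hcen] at hcenH
  exact hcenH

/-- extension: `A ⊴ Y` contains all commutators, `A` is big, the centre of `Y` is trivial -/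
theorem bigY_of_normal {Y : Type u} [Group Y] [Finite Y] (A : Subgroup Y) [A.Normal]
    (hcomm : ∀ g h : Y, g * h * g⁻¹ * h⁻¹ ∈ A) (hbig : BigY A)
    (hcen : Subgroup.center Y = ⊥) : BigY Y := by
  intro H hH hZ
  have hsub : (H.subgroupOf A) = ⊥ := by
    apply hbig
    · infer_instance
    · exact IsZGroup.of_injective (f := (A.subtype).subgroupComap H)
        (by
          intro x y hxy
          apply Subtype.ext
          apply Subtype.ext
          have := congrArg Subtype.val hxy
          exact this)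
  rw [eq_bot_iff]
  intro h hh
  have hcenH : h ∈ Subgroup.center Y := by
    rw [Subgroup.mem_center_iff]
    intro g
    have h1 : g * h * g⁻¹ * h⁻¹ ∈ H := H.mul_mem (hH.conj_mem h hh g) (H.inv_mem hh)
    have h2 : g * h * g⁻¹ * h⁻¹ ∈ A := hcomm g h
    have h3 : (⟨g * h * g⁻¹ * h⁻¹, h2⟩ : A) ∈ H.subgroupOf A := Subgroup.mem_subgroupOf.mpr h1
    rw [hsub, Subgroup.mem_bot] at h3
    have h4 : g * h * g⁻¹ * h⁻¹ = 1 := congrArg Subtype.val h3
    calc g * h = (g * h * g⁻¹ * h⁻¹) * h * g := by group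
      _ = h * g := by rw [h4, one_mul]
  rw [hcen] at hcenH
  exact hcenH

/-- a simple group which is not a Z-group is big -/
theorem bigY_of_simple {Y : Type u} [Group Y] [IsSimpleGroup Y] (hnz : ¬ IsZGroup Y) : BigY Y := by
  intro H hH hZ
  rcases hH.eq_bot_or_eq_top with h | h
  · exact h
  · exfalso
    apply hnz
    subst h
    exact IsZGroup.of_injective (f := (Subgroup.topEquiv (G := Y)).symm.toMonoidHom)
      (Subgroup.topEquiv (G := Y)).symm.injective

/-- a big group which is not a Z-group is not commutative -/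
theorem not_comm_of_bigY {Y : Type u} [Group Y] (hbig : BigY Y) (hnz : ¬ IsZGroup Y) :
    ∃ a b : Y, a * b ≠ b * a := by
  by_contra hcon
  push Not at hcon
  apply hnz
  -- every cyclic subgroup is normal and a Z-group, hence trivial; so `Y` is trivial
  have h1 : ∀ y : Y, y = 1 := by
    intro y
    have hn : (Subgroup.zpowers y).Normal := by
      constructor
      intro a ha g
      have : g * a * g⁻¹ = a := by rw [hcon g a]; group
      rw [this]; exact ha
    have := hbig (Subgroup.zpowers y) hn inferInstance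
    have hy : y ∈ Subgroup.zpowers y := Subgroup.mem_zpowers y
    rw [this, Subgroup.mem_bot] at hy
    exact hy
  have : Subsingleton Y := ⟨fun a b => by rw [h1 a, h1 b]⟩
  infer_instance

end Cfsg.Agent.S4291L
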