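import Mathlib
import Cfsg.Agent.Lib.S4291.UniqA

/-! # S4291 (A): uniqueness — the groups `D₂`, `A₄`, `S₄`, `A₅`, `S₅` (helper8) -/

set_option autoImplicit false

namespace Cfsg.Agent.S4291L

open Equiv Equiv.Perm

/-- the centre of a symmetric group on at least three letters is trivial -/
theorem perm_center_eq_bot {α : Type*} [DecidableEq α] [Fintype α] (h : 3 ≤ Fintype.card α) :
    Subgroup.center (Perm α) = ⊥ := by
  rw [eq_bot_iff]
  intro σ hσ
  rw [Subgroup.mem_bot]
  rw [Subgroup.mem_center_iff] at hσ
  ext i
  by_contra hne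
  rw [Perm.one_apply] at hne
  -- pick `k ∉ {i, σ i}`
  have hcard : ({i, σ i} : Finset α).card < (Finset.univ : Finset α).card := by
    rw [Finset.card_univ]
    exact lt_of_le_of_lt Finset.card_le_two (by omega)
  obtain ⟨k, -, hk⟩ := Finset.exists_mem_notMem_of_card_lt_card hcard
  simp only [Finset.mem_insert, Finset.mem_singleton, not_or] at hk
  have h1 := congrArg (fun τ : Perm α => τ i) (hσ (swap (σ i) k))
  simp only [Perm.mul_apply] at h1
  rw [swap_apply_of_ne_of_ne (Ne.symm hne) (Ne.symm hk.1), swap_apply_left] at h1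
  exact hk.2 h1

/-- the commutator of two permutations is even -/
theorem comm_mem_alternating {α : Type*} [DecidableEq α] [Fintype α] (g h : Perm α) :
    g * h * g⁻¹ * h⁻¹ ∈ alternatingGroup α := by
  rw [mem_alternatingGroup]
  simp [Perm.sign_mul, Perm.sign_inv, mul_comm, mul_assoc, mul_left_comm]

theorem not_isZGroup_of_kleinFour {Y : Type*} [Group Y] (V : Subgroup Y) [IsKleinFour V] :
    ¬ IsZGroup Y := by
  intro hZ
  have : Fact (Nat.Prime 2) := ⟨Nat.prime_two⟩
  have hp : IsPGroup 2 V := IsPGroup.of_card (n := 2) (by rw [IsKleinFour.card_four]; norm_num)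
  exact IsKleinFour.not_isCyclic (IsPGroup.isCyclic_of_isZGroup hp)

theorem card_fin_four : Nat.card (Fin 4) = 4 := by simp

/-- `A₄` is not a Z-group -/
theorem not_isZGroup_A4 : ¬ IsZGroup (alternatingGroup (Fin 4)) := by
  have := alternatingGroup.kleinFour_isKleinFour (α := Fin 4) card_fin_four
  exact not_isZGroup_of_kleinFour (alternatingGroup.kleinFour (Fin 4))

/-- `A₄` has no nontrivial normal Z-subgroup -/
theorem bigY_A4 : BigY (alternatingGroup (Fin 4)) := by
  have := alternatingGroup.normal_kleinFour (α := Fin 4) card_fin_four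
  apply bigY_of_exp_two (alternatingGroup.kleinFour (Fin 4))
  · intro v hv
    have hexp := alternatingGroup.exponent_kleinFour_of_card_eq_four (α := Fin 4) card_fin_four
    have := Monoid.pow_exponent_eq_one (⟨v, hv⟩ : alternatingGroup.kleinFour (Fin 4))
    rw [hexp, sq] at this
    exact congrArg Subtype.val this
  · intro g h
    rw [alternatingGroup.kleinFour_eq_commutator card_fin_four, commutator_def]
    have := Subgroup.commutator_mem_commutator (Subgroup.mem_top g) (Subgroup.mem_top h)
    rwa [commutatorElement_def] at this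
  · exact alternatingGroup.center_eq_bot (by simp)

/-- `S₄` is not a Z-group -/
theorem not_isZGroup_S4 : ¬ IsZGroup (Perm (Fin 4)) := by
  intro h
  exact not_isZGroup_A4 inferInstance

/-- `S₄` has no nontrivial normal Z-subgroup -/
theorem bigY_S4 : BigY (Perm (Fin 4)) :=
  bigY_of_normal (alternatingGroup (Fin 4)) comm_mem_alternating bigY_A4
    (perm_center_eq_bot (by simp))

/-- `A₅` is not a Z-group -/
theorem not_isZGroup_A5 : ¬ IsZGroup (alternatingGroup (Fin 5)) := by
  intro h
  have hsol : Group.IsSolvable (alternatingGroup (Fin 5)) := inferInstance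
  have hcomm := IsSimpleGroup.comm_iff_isSolvable.mpr hsol
  have hcen : Subgroup.center (alternatingGroup (Fin 5)) = ⊥ :=
    alternatingGroup.center_eq_bot (by simp)
  have : Nontrivial (alternatingGroup (Fin 5)) :=
    alternatingGroup.nontrivial_of_three_le_card (by simp)
  obtain ⟨a, ha⟩ := exists_ne (1 : alternatingGroup (Fin 5))
  apply ha
  have : a ∈ Subgroup.center (alternatingGroup (Fin 5)) := by
    rw [Subgroup.mem_center_iff]
    intro g
    exact hcomm g a
  rwa [hcen, Subgroup.mem_bot] at this

/-- `A₅` has no nontrivial normal Z-subgroup -/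
theorem bigY_A5 : BigY (alternatingGroup (Fin 5)) := bigY_of_simple not_isZGroup_A5

/-- `S₅` is not a Z-group -/
theorem not_isZGroup_S5 : ¬ IsZGroup (Perm (Fin 5)) := by
  intro h
  exact not_isZGroup_A5 inferInstance

/-- `S₅` has no nontrivial normal Z-subgroup -/
theorem bigY_S5 : BigY (Perm (Fin 5)) :=
  bigY_of_normal (alternatingGroup (Fin 5)) comm_mem_alternating bigY_A5
    (perm_center_eq_bot (by simp))

/-- `D₂` is not a Z-group -/
theorem not_isZGroup_D2 : ¬ IsZGroup (DihedralGroup 2) := by
  intro h
  have h2 : ∀ k : DihedralGroup 2, k * k = 1 := IsKleinFour.mul_self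
  have := card_le_two_of_exp_two h2 (DihedralGroup.r 1) (DihedralGroup.sr 0) (by decide) (by decide)
  exact absurd this (by decide)

end Cfsg.Agent.S4291L
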