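import Mathlib
import Cfsg.Agent.Lib.S4291.UniqB
import Cfsg.Agent.Lib.S3358.U1

/-! # S4291 (A): uniqueness — assembly (helper8) -/

set_option autoImplicit false

namespace Cfsg.Agent.S4291L

universe u

open Cfsg.Agent.S3358L

variable {G : Type u} [Group G]

/-- the image of a normal Z-subgroup in a big quotient is trivial -/
theorem le_of_bigY [Finite G] {Y : Type} [Group Y] (hbig : BigY Y) {N₁ N₂ : Subgroup G}
    (f : G →* Y) (hf : Function.Surjective f) (hker : f.ker = N₁) (hN₂ : N₂.Normal)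
    (hZ₂ : IsZ N₂) : N₂ ≤ N₁ := by
  have hZ : IsZGroup N₂ := (isZ_iff N₂).mp hZ₂
  have hnorm : (N₂.map f).Normal := Subgroup.Normal.map hN₂ f hf
  have hZmap : IsZGroup (N₂.map f) :=
    IsZGroup.of_surjective (f := f.subgroupMap N₂) (f.subgroupMap_surjective N₂)
  have hbot := hbig _ hnorm hZmap
  intro n hn
  rw [← hker, MonoidHom.mem_ker]
  have : f n ∈ N₂.map f := Subgroup.mem_map_of_mem f hn
  rwa [hbot, Subgroup.mem_bot] at this

theorem d2_comm : ∀ a b : DihedralGroup 2, a * b = b * a := by decide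

/-- a big quotient and a small quotient cannot coexist -/
theorem false_of_big_small [Finite G] {Y : Type} [Group Y] (hbig : BigY Y) (hnz : ¬ IsZGroup Y)
    {N₁ N₂ : Subgroup G} (f : G →* Y) (hf : Function.Surjective f) (hker : f.ker = N₁)
    (hN₂ : N₂.Normal) (hZ₂ : IsZ N₂) (hsmall : N₂ = ⊤ ∨ Quo N₂ (DihedralGroup 2)) : False := by
  have hle := le_of_bigY hbig f hf hker hN₂ hZ₂
  obtain ⟨a, b, hab⟩ := not_comm_of_bigY hbig hnz
  obtain ⟨ga, rfl⟩ := hf a
  obtain ⟨gb, rfl⟩ := hf b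
  apply hab
  have hmem : ga * gb * ga⁻¹ * gb⁻¹ ∈ N₂ := by
    rcases hsmall with h | ⟨f₂, -, hk₂⟩
    · rw [h]; exact Subgroup.mem_top _
    · rw [← hk₂, MonoidHom.mem_ker]
      simp only [map_mul, map_inv]
      rw [d2_comm (f₂ ga) (f₂ gb)]
      group
  have h1 := hle hmem
  rw [← hker, MonoidHom.mem_ker] at h1
  simp only [map_mul, map_inv] at h1
  calc f ga * f gb = (f ga * f gb * (f ga)⁻¹ * (f gb)⁻¹) * f gb * f ga := by group
    _ = f gb * f ga := by rw [h1, one_mul]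

/-- `⊤` and a `D₂`-quotient cannot coexist -/
theorem false_of_top_d2 [Finite G] {N₂ : Subgroup G} (hZ : IsZ (⊤ : Subgroup G))
    (h₂ : Quo N₂ (DihedralGroup 2)) : False := by
  obtain ⟨f₂, hf₂, -⟩ := h₂
  have hZtop : IsZGroup (⊤ : Subgroup G) := (isZ_iff _).mp hZ
  have hZG : IsZGroup G :=
    IsZGroup.of_injective (f := (Subgroup.topEquiv (G := G)).symm.toMonoidHom)
      (Subgroup.topEquiv (G := G)).symm.injective
  exact not_isZGroup_D2 (IsZGroup.of_surjective hf₂)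

/-- the image of a cyclic or quaternion group in a group of exponent two has at most four
elements -/
theorem card_map_le_four {E : Type*} [Group E] (φ : G →* E) (hexp : ∀ e : E, e * e = 1)
    (P : Subgroup G)
    (hP : IsCyclic P ∨ ∃ n : ℕ, Nonempty (P ≃* QuaternionGroup (2 ^ n))) :
    Nat.card (P.map φ) ≤ 4 := by
  classical
  have hpow : ∀ (e : E) (k : ℕ), e ^ k = 1 ∨ e ^ k = e := by
    intro e k
    have h2 : e ^ 2 = 1 := by rw [sq]; exact hexp e
    rcases Nat.even_or_odd' k with ⟨c, hc | hc⟩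
    · left; rw [hc, pow_mul, h2, one_pow]
    · right; rw [hc, pow_succ, pow_mul, h2, one_pow, one_mul]
  have hzpow : ∀ (e : E) (k : ℤ), e ^ k = 1 ∨ e ^ k = e := by
    intro e k
    have h2 : e ^ (2 : ℤ) = 1 := by rw [zpow_two]; exact hexp e
    rcases Int.even_or_odd' k with ⟨c, hc | hc⟩
    · left; rw [hc, zpow_mul, h2, one_zpow]
    · right; rw [hc, zpow_add, zpow_mul, h2, one_zpow, one_mul, zpow_one]
  obtain ⟨s, hs⟩ : ∃ s : Finset E, s.card ≤ 4 ∧ ((P.map φ : Subgroup E) : Set E) ⊆ s := by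
    rcases hP with hc | ⟨n, ⟨e⟩⟩
    · obtain ⟨g, hg⟩ := hc.exists_generator
      refine ⟨{1, φ g, 1, 1}, Finset.card_le_four, ?_⟩
      rintro _ ⟨p, hp, rfl⟩
      obtain ⟨k, hk⟩ := Subgroup.mem_zpowers_iff.mp (hg ⟨p, hp⟩)
      have : p = (g : G) ^ k := by
        have := congrArg Subtype.val hk
        simpa using this.symm
      rw [this, map_zpow]
      rcases hzpow (φ g) k with h | h <;> simp [h]
    · set α := φ (e.symm (QuaternionGroup.a 1)) with hα
      set ξ := φ (e.symm (QuaternionGroup.xa 0)) with hξ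
      refine ⟨{1, α, ξ, ξ * α}, Finset.card_le_four, ?_⟩
      rintro _ ⟨p, hp, rfl⟩
      have hne : NeZero (2 * 2 ^ n) := ⟨by positivity⟩
      have hp' : (⟨p, hp⟩ : P) = e.symm (e ⟨p, hp⟩) := (e.symm_apply_apply _).symm
      have hval : φ p = φ ((e.symm (e ⟨p, hp⟩) : P) : G) := by rw [← hp']
      have ha : ∀ i : ZMod (2 * 2 ^ n), φ ((e.symm (QuaternionGroup.a i) : P) : G) = α ^ i.val := by
        intro i
        have : (QuaternionGroup.a i : QuaternionGroup (2 ^ n)) = QuaternionGroup.a 1 ^ i.val := by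
          rw [QuaternionGroup.a_one_pow, ZMod.natCast_zmod_val]
        rw [this, map_pow, Subgroup.coe_pow, map_pow]
      rcases h : e ⟨p, hp⟩ with i | i
      · rw [hval, h, ha i]
        rcases hpow α i.val with h' | h' <;> simp [h']
      · have hx : (QuaternionGroup.xa i : QuaternionGroup (2 ^ n))
            = QuaternionGroup.xa 0 * QuaternionGroup.a i := by
          rw [QuaternionGroup.xa_mul_a, zero_add]
        rw [hval, h, hx, map_mul, Subgroup.coe_mul, map_mul, ha i]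
        rcases hpow α i.val with h' | h' <;> simp [h', ← hξ]
  calc Nat.card (P.map φ) = Set.ncard ((P.map φ : Subgroup E) : Set E) := by
        rw [← Nat.card_coe_set_eq]; rfl
    _ ≤ Set.ncard (s : Set E) := Set.ncard_le_ncard hs.2 (Finset.finite_toSet s)
    _ = s.card := Set.ncard_coe_finset s
    _ ≤ 4 := hs.1

/-- two `D₂`-quotients coincide in a `PU`-group -/
theorem le_of_d2_d2 [Finite G] (hU : PU G) {N₁ N₂ : Subgroup G}
    (h₁ : Quo N₁ (DihedralGroup 2)) (h₂ : Quo N₂ (DihedralGroup 2)) : N₁ ≤ N₂ := by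
  classical
  obtain ⟨f₁, hf₁, hk₁⟩ := h₁
  obtain ⟨f₂, hf₂, hk₂⟩ := h₂
  set F : G →* DihedralGroup 2 × DihedralGroup 2 := f₁.prod f₂ with hF
  have hkerF : F.ker = N₁ ⊓ N₂ := by rw [hF, MonoidHom.ker_prod, hk₁, hk₂]
  have hexpE : ∀ e : F.range, e * e = 1 := by
    intro e
    apply Subtype.ext
    apply Prod.ext
    · exact IsKleinFour.mul_self _
    · exact IsKleinFour.mul_self _
  have : Fact (Nat.Prime 2) := ⟨Nat.prime_two⟩
  obtain ⟨P⟩ : Nonempty (Sylow 2 G) := inferInstance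
  have hPshape := U1_pgroup hU 2 (P : Subgroup G) P.isPGroup'
  have hPshape' : IsCyclic (P : Subgroup G) ∨
      ∃ n : ℕ, Nonempty ((P : Subgroup G) ≃* QuaternionGroup (2 ^ n)) := by
    rcases hPshape with h | ⟨-, h⟩
    · exact Or.inl h
    · exact Or.inr h
  have hsurj : Function.Surjective F.rangeRestrict := F.rangeRestrict_surjective
  have hcard4 := card_map_le_four F.rangeRestrict hexpE (P : Subgroup G) hPshape'
  -- the image of `P` is everything
  have hpg : IsPGroup 2 (⊤ : Subgroup F.range) := by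
    intro e
    refine ⟨1, ?_⟩
    rw [pow_one, sq]
    apply Subtype.ext
    exact hexpE e.1
  have htop : (⊤ : Subgroup F.range) = (P : Subgroup G).map F.rangeRestrict := by
    have := (P.mapSurjective hsurj).is_maximal' hpg le_top
    rw [this]
    exact Sylow.coe_mapSurjective hsurj P
  have hcardR : Nat.card F.range ≤ 4 := by
    have : Nat.card F.range = Nat.card (⊤ : Subgroup F.range) := Subgroup.card_top.symm
    rw [this, htop]
    exact hcard4
  -- indices
  have hidx : (N₁ ⊓ N₂).index ≤ 4 := by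
    rw [← hkerF, Subgroup.index_ker]; exact hcardR
  have hidx₁ : N₁.index = 4 := by
    rw [← hk₁, Subgroup.index_ker, MonoidHom.range_eq_top.mpr hf₁, Subgroup.card_top,
      DihedralGroup.nat_card]
  have hmul := Subgroup.relIndex_mul_index (inf_le_left : N₁ ⊓ N₂ ≤ N₁)
  rw [hidx₁] at hmul
  have hrel : (N₁ ⊓ N₂).relIndex N₁ = 1 := by
    have hpos : 0 < (N₁ ⊓ N₂).relIndex N₁ := by
      rcases Nat.eq_zero_or_pos ((N₁ ⊓ N₂).relIndex N₁) with h | h
      · exfalso
        rw [h, zero_mul] at hmul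
        have : (N₁ ⊓ N₂).index ≠ 0 := Subgroup.index_ne_zero_of_finite
        exact this hmul.symm
      · exact h
    nlinarith
  have := Subgroup.relIndex_eq_one.mp hrel
  exact fun n hn => (this hn).2

/-- **uniqueness** of the normal subgroup in S4291 -/
theorem valid_unique [Finite G] (hU : PU G) {N₁ N₂ : Subgroup G} (h₁ : Valid N₁)
    (h₂ : Valid N₂) : N₁ = N₂ := by
  obtain ⟨hn₁, hz₁, hq₁⟩ := h₁
  obtain ⟨hn₂, hz₂, hq₂⟩ := h₂
  -- classify each side as small or big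
  have key : ∀ {N N' : Subgroup G}, N.Normal → IsZ N → N'.Normal → IsZ N' →
      (N = ⊤ ∨ Quo N (DihedralGroup 2) ∨ Quo N (alternatingGroup (Fin 4)) ∨
        Quo N (Equiv.Perm (Fin 4)) ∨ Quo N (alternatingGroup (Fin 5)) ∨
        Quo N (Equiv.Perm (Fin 5))) →
      (N' = ⊤ ∨ Quo N' (DihedralGroup 2) ∨ Quo N' (alternatingGroup (Fin 4)) ∨
        Quo N' (Equiv.Perm (Fin 4)) ∨ Quo N' (alternatingGroup (Fin 5)) ∨
        Quo N' (Equiv.Perm (Fin 5))) → N' ≤ N := by
    intro N N' hn hz hn' hz' hq hq'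
    have hsmall' : (N' = ⊤ ∨ Quo N' (DihedralGroup 2)) ∨ ¬ (N' = ⊤ ∨ Quo N' (DihedralGroup 2)) :=
      Classical.em _
    rcases hq with h | h | ⟨f, hf, hk⟩ | ⟨f, hf, hk⟩ | ⟨f, hf, hk⟩ | ⟨f, hf, hk⟩
    · rw [h]; exact le_top
    · -- `N` has a `D₂` quotient
      rcases hq' with h' | h' | ⟨f', hf', hk'⟩ | ⟨f', hf', hk'⟩ | ⟨f', hf', hk'⟩ | ⟨f', hf', hk'⟩
      · exfalso; rw [h'] at hz'; exact false_of_top_d2 hz' h
      · exact le_of_d2_d2 hU h' h
      · exact (false_of_big_small bigY_A4 not_isZGroup_A4 f' hf' hk' hn hz (Or.inr h)).elim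
      · exact (false_of_big_small bigY_S4 not_isZGroup_S4 f' hf' hk' hn hz (Or.inr h)).elim
      · exact (false_of_big_small bigY_A5 not_isZGroup_A5 f' hf' hk' hn hz (Or.inr h)).elim
      · exact (false_of_big_small bigY_S5 not_isZGroup_S5 f' hf' hk' hn hz (Or.inr h)).elim
    · exact le_of_bigY bigY_A4 f hf hk hn' hz'
    · exact le_of_bigY bigY_S4 f hf hk hn' hz'
    · exact le_of_bigY bigY_A5 f hf hk hn' hz'
    · exact le_of_bigY bigY_S5 f hf hk hn' hz'
  -- `N = ⊤` on one side needs separate care for `≤`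
  have key' : ∀ {N N' : Subgroup G}, N.Normal → IsZ N → N'.Normal → IsZ N' →
      (N = ⊤ ∨ Quo N (DihedralGroup 2) ∨ Quo N (alternatingGroup (Fin 4)) ∨
        Quo N (Equiv.Perm (Fin 4)) ∨ Quo N (alternatingGroup (Fin 5)) ∨
        Quo N (Equiv.Perm (Fin 5))) →
      (N' = ⊤ ∨ Quo N' (DihedralGroup 2) ∨ Quo N' (alternatingGroup (Fin 4)) ∨
        Quo N' (Equiv.Perm (Fin 4)) ∨ Quo N' (alternatingGroup (Fin 5)) ∨
        Quo N' (Equiv.Perm (Fin 5))) → N = ⊤ → N' = ⊤ := by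
    intro N N' hn hz hn' hz' hq hq' htop
    rcases hq' with h' | h' | ⟨f', hf', hk'⟩ | ⟨f', hf', hk'⟩ | ⟨f', hf', hk'⟩ | ⟨f', hf', hk'⟩
    · exact h'
    · exfalso; rw [htop] at hz; exact false_of_top_d2 hz h'
    · exact (false_of_big_small bigY_A4 not_isZGroup_A4 f' hf' hk' hn hz (Or.inl htop)).elim
    · exact (false_of_big_small bigY_S4 not_isZGroup_S4 f' hf' hk' hn hz (Or.inl htop)).elim
    · exact (false_of_big_small bigY_A5 not_isZGroup_A5 f' hf' hk' hn hz (Or.inl htop)).elim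
    · exact (false_of_big_small bigY_S5 not_isZGroup_S5 f' hf' hk' hn hz (Or.inl htop)).elim
  by_cases ht₁ : N₁ = ⊤
  · rw [ht₁, key' hn₁ hz₁ hn₂ hz₂ hq₁ hq₂ ht₁]
  by_cases ht₂ : N₂ = ⊤
  · rw [ht₂, key' hn₂ hz₂ hn₁ hz₁ hq₂ hq₁ ht₂]
  exact le_antisymm (key hn₂ hz₂ hn₁ hz₁ hq₂ hq₁) (key hn₁ hz₁ hn₂ hz₂ hq₁ hq₂)

end Cfsg.Agent.S4291L
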