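import Mathlib
import Cfsg.Agent.Lib.S4291.Defs
import Cfsg.Agent.Lib.S3358.U1

set_option autoImplicit false
set_option linter.style.haveILetI false
set_option linter.unusedVariables false
set_option linter.unusedSectionVars false

namespace Cfsg.Agent.S4291L

open Cfsg.Agent.S3358L QuaternionGroup

universe u

theorem UD_d2_sq : ∀ y : DihedralGroup 2, y * y = 1 := by decide

theorem UD_d2d2_sq (y : DihedralGroup 2 × DihedralGroup 2) : y * y = 1 := by
  ext <;> simp [UD_d2_sq]

theorem UD_d2d2_comm (x y : DihedralGroup 2 × DihedralGroup 2) : x * y = y * x := by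
  have h1 := UD_d2d2_sq (x * y)
  have h2 := UD_d2d2_sq x
  have h3 := UD_d2d2_sq y
  calc x * y = (y * y) * (x * y) * (x * x) := by rw [h2, h3]; simp
    _ = y * ((y * x) * (y * x)) * x := by group
    _ = y * x := by rw [UD_d2d2_sq]; simp

/-- powers of an element of square one -/
theorem UD_pow_mem_pair {E : Type*} [Group E] {α : E} (h : α * α = 1) (i : ℕ) :
    α ^ i = 1 ∨ α ^ i = α := by
  induction i with
  | zero => left; simp
  | succ i ih =>
    rcases ih with h1 | h1
    · right; rw [pow_succ, h1, one_mul]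
    · left; rw [pow_succ, h1, h]

/-- elements of a generalized quaternion group in terms of the generators -/
theorem UD_quat_gen (n : ℕ) [NeZero n] (w : QuaternionGroup n) :
    ∃ i : ℕ, w = (a 1) ^ i ∨ w = xa 0 * (a 1) ^ i := by
  cases w with
  | a i =>
    refine ⟨i.val, Or.inl ?_⟩
    rw [a_one_pow]; congr 1; exact (ZMod.natCast_zmod_val i).symm
  | xa i =>
    refine ⟨i.val, Or.inr ?_⟩
    rw [a_one_pow, xa_mul_a, zero_add]; congr 1; exact (ZMod.natCast_zmod_val i).symm

variable {G : Type u} [Group G] [Finite G]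

/-- a homomorphism to `D₂ × D₂` from a `PU`-group has at most 4 values -/
theorem UD_card_range_le_four (hU : PU G) (F : G →* DihedralGroup 2 × DihedralGroup 2) :
    Nat.card F.range ≤ 4 := by
  haveI : Fact (Nat.Prime 2) := ⟨Nat.prime_two⟩
  have hY : IsPGroup 2 F.range := by
    intro y
    refine ⟨1, ?_⟩
    apply Subtype.ext
    rw [pow_one, pow_two]
    exact UD_d2d2_sq _
  let Q : Sylow 2 F.range := default
  have hQtop : (Q : Subgroup F.range) = ⊤ := (Q.is_maximal' (hY.to_subgroup ⊤) le_top).symm
  obtain ⟨P₀, hP₀⟩ := Sylow.mapSurjective_surjective F.rangeRestrict_surjective 2 Q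
  have hcover : ∀ g : G, ∃ p ∈ (P₀ : Subgroup G), F p = F g := by
    intro g
    have h1 : (⟨F g, g, rfl⟩ : F.range) ∈ (Q : Subgroup F.range) := by rw [hQtop]; trivial
    rw [← hP₀] at h1
    obtain ⟨p, hp, hpe⟩ := h1
    exact ⟨p, hp, congrArg Subtype.val hpe⟩
  -- a set of four values
  obtain ⟨α, β, hαβ⟩ : ∃ α β : DihedralGroup 2 × DihedralGroup 2,
      ∀ p ∈ (P₀ : Subgroup G), F p = 1 ∨ F p = α ∨ F p = β ∨ F p = β * α := by
    rcases U1_pgroup hU 2 (P₀ : Subgroup G) P₀.2 with hc | ⟨_, n, ⟨e⟩⟩
    · obtain ⟨c, hc'⟩ := hc.exists_generator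
      refine ⟨F c, 1, ?_⟩
      intro p hp
      obtain ⟨i, hi⟩ := Subgroup.mem_zpowers_iff.mp (hc' ⟨p, hp⟩)
      have : p = (c : G) ^ i := by
        have := congrArg Subtype.val hi
        simpa using this.symm
      rw [this, map_zpow]
      -- reduce to natural powers
      have hsq : F c * F c = 1 := UD_d2d2_sq _
      have hinv : (F c)⁻¹ = F c := inv_eq_of_mul_eq_one_right hsq
      rcases Int.eq_nat_or_neg i with ⟨k, rfl | rfl⟩
      · rw [zpow_natCast]
        rcases UD_pow_mem_pair hsq k with h | h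
        · left; exact h
        · right; left; exact h
      · rw [zpow_neg, zpow_natCast, ← inv_pow, hinv]
        rcases UD_pow_mem_pair hsq k with h | h
        · left; exact h
        · right; left; exact h
    · set A : G := ((e.symm (a 1) : (P₀ : Subgroup G)) : G) with hA
      set X : G := ((e.symm (xa 0) : (P₀ : Subgroup G)) : G) with hX
      refine ⟨F A, F X, ?_⟩
      intro p hp
      obtain ⟨i, hi⟩ := UD_quat_gen (2 ^ n) (e ⟨p, hp⟩)
      have hsq : F A * F A = 1 := UD_d2d2_sq _
      have hp' : (⟨p, hp⟩ : (P₀ : Subgroup G)) = e.symm (e ⟨p, hp⟩) := by simp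
      rcases hi with hi | hi
      · have : p = A ^ i := by
          have := congrArg (fun q : (P₀ : Subgroup G) => (q : G)) hp'
          simp only [hi, map_pow, Subgroup.coe_pow] at this
          exact this
        rw [this, map_pow]
        rcases UD_pow_mem_pair hsq i with h | h
        · left; exact h
        · right; left; exact h
      · have : p = X * A ^ i := by
          have := congrArg (fun q : (P₀ : Subgroup G) => (q : G)) hp'
          simp only [hi, map_mul, map_pow, Subgroup.coe_mul, Subgroup.coe_pow] at this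
          exact this
        rw [this, map_mul, map_pow]
        rcases UD_pow_mem_pair hsq i with h | h
        · right; right; left; rw [h, mul_one]
        · right; right; right; rw [h]
  classical
  have hsub : (F.range : Set (DihedralGroup 2 × DihedralGroup 2)) ⊆
      ↑({1, α, β, β * α} : Finset (DihedralGroup 2 × DihedralGroup 2)) := by
    rintro _ ⟨g, rfl⟩
    obtain ⟨p, hp, hpe⟩ := hcover g
    rw [← hpe]
    have := hαβ p hp
    simp only [Finset.coe_insert, Finset.coe_singleton, Set.mem_insert_iff, Set.mem_singleton_iff]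
    exact this
  calc Nat.card F.range = (F.range : Set (DihedralGroup 2 × DihedralGroup 2)).ncard :=
        Nat.card_coe_set_eq _
    _ ≤ (↑({1, α, β, β * α} : Finset (DihedralGroup 2 × DihedralGroup 2)) : Set _).ncard :=
        Set.ncard_le_ncard hsub (Finset.finite_toSet _)
    _ = ({1, α, β, β * α} : Finset (DihedralGroup 2 × DihedralGroup 2)).card :=
        Set.ncard_coe_finset _
    _ ≤ 4 := Finset.card_le_four

/-- (A5) -/
theorem unique_of_quo_d2 (hU : PU G) {N₁ N₂ : Subgroup G} (h₁ : Quo N₁ (DihedralGroup 2))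
    (h₂ : Quo N₂ (DihedralGroup 2)) : N₁ = N₂ := by
  obtain ⟨f₁, hs₁, hk₁⟩ := h₁
  obtain ⟨f₂, hs₂, hk₂⟩ := h₂
  set F := f₁.prod f₂ with hF
  have hker : F.ker = N₁ ⊓ N₂ := by rw [hF, MonoidHom.ker_prod, hk₁, hk₂]
  have hidx : F.ker.index ≤ 4 := by
    rw [Subgroup.index_ker]
    exact UD_card_range_le_four hU F
  have hcardD : Nat.card (DihedralGroup 2) = 4 := by
    rw [Nat.card_eq_fintype_card, DihedralGroup.card]
  have hidx' : ∀ (f : G →* DihedralGroup 2), Function.Surjective f → f.ker.index = 4 := by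
    intro f hf
    rw [Subgroup.index_ker, MonoidHom.range_eq_top.mpr hf, Subgroup.card_top, hcardD]
  have key : ∀ N : Subgroup G, N.index = 4 → F.ker ≤ N → N ≤ F.ker := by
    intro N hN hle
    have h := Subgroup.relIndex_mul_index hle
    rw [hN] at h
    have h0 : F.ker.index ≠ 0 := Subgroup.index_ne_zero_of_finite
    have h1 : F.ker.relIndex N = 1 := by
      rcases Nat.eq_zero_or_pos (F.ker.relIndex N) with h2 | h2
      · rw [h2, zero_mul] at h; exact absurd h.symm h0
      · nlinarith
    exact Subgroup.relIndex_eq_one.mp h1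
  have k1 : N₁ ≤ N₁ ⊓ N₂ := by
    rw [← hker]
    exact key N₁ (hk₁ ▸ hidx' f₁ hs₁) (hker ▸ inf_le_left)
  have k2 : N₂ ≤ N₁ ⊓ N₂ := by
    rw [← hker]
    exact key N₂ (hk₂ ▸ hidx' f₂ hs₂) (hker ▸ inf_le_right)
  exact le_antisymm (k1.trans inf_le_right) (k2.trans inf_le_left)

end Cfsg.Agent.S4291L
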