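import Mathlib
import Cfsg.Agent.Lib.S4291.UniqD2

set_option autoImplicit false
set_option linter.style.haveILetI false
set_option linter.unusedVariables false
set_option linter.unusedSectionVars false

namespace Cfsg.Agent.S4291L

open Cfsg.Agent.S3358L

universe u

/-- `Y` is "big": no nontrivial normal subgroup with all Sylow subgroups cyclic, and order ≥ 12 -/
def VU_Big (Y : Type) [Group Y] : Prop :=
  (∀ H : Subgroup Y, H.Normal → IsZ H → H = ⊥) ∧ 12 ≤ Nat.card Y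

variable {G : Type u} [Group G] [Finite G]

/-- (A1) the image of a subgroup with cyclic Sylow subgroups has cyclic Sylow subgroups -/
theorem VU_isZ_map {Y : Type*} [Group Y] (N : Subgroup G) (f : G →* Y) (hN : IsZ N) :
    IsZ (N.map f) := by
  intro p hp P'
  have hsurj : Function.Surjective (f.subgroupMap N) := f.subgroupMap_surjective N
  obtain ⟨P, hP⟩ := Sylow.mapSurjective_surjective hsurj p P'
  have h1 : (P' : Subgroup (N.map f)) = (P : Subgroup N).map (f.subgroupMap N) := by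
    rw [← hP]; rfl
  rw [h1]
  haveI := hN p P
  exact isCyclic_of_surjective ((f.subgroupMap N).subgroupMap (P : Subgroup N))
    (MonoidHom.subgroupMap_surjective _ _)

/-- a normal Z-subgroup lies in the kernel of a map onto a big group -/
theorem VU_le_of_big {Y : Type} [Group Y] (hY : VU_Big Y) {N₁ N₂ : Subgroup G}
    (h₁ : Quo N₁ Y) (hn₂ : N₂.Normal) (hz₂ : IsZ N₂) : N₂ ≤ N₁ := by
  obtain ⟨f, hf, hk⟩ := h₁
  have hnorm : (N₂.map f).Normal := hn₂.map f hf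
  have := hY.1 (N₂.map f) hnorm (VU_isZ_map N₂ f hz₂)
  rw [← hk]
  intro g hg
  rw [MonoidHom.mem_ker]
  have h1 : f g ∈ N₂.map f := Subgroup.mem_map_of_mem f hg
  rw [this, Subgroup.mem_bot] at h1
  exact h1

theorem VU_index_of_quo {Y : Type} [Group Y] {N : Subgroup G} (h : Quo N Y) :
    N.index = Nat.card Y := by
  obtain ⟨f, hf, hk⟩ := h
  rw [← hk, Subgroup.index_ker, MonoidHom.range_eq_top.mpr hf, Subgroup.card_top]

theorem VU_card_d2 : Nat.card (DihedralGroup 2) = 4 := by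
  rw [Nat.card_eq_fintype_card, DihedralGroup.card]

/-- big against small is impossible -/
theorem VU_big_small {Y : Type} [Group Y] (hY : VU_Big Y) {N₁ N₂ : Subgroup G}
    (h₁ : Quo N₁ Y) (hn₂ : N₂.Normal) (hz₂ : IsZ N₂)
    (hs : N₂ = ⊤ ∨ Quo N₂ (DihedralGroup 2)) : False := by
  have hle := VU_le_of_big hY h₁ hn₂ hz₂
  have hdvd : N₁.index ∣ N₂.index := Subgroup.index_dvd_of_le hle
  rw [VU_index_of_quo h₁] at hdvd
  have h12 := hY.2
  rcases hs with h | h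
  · rw [h, Subgroup.index_top] at hdvd
    have := Nat.le_of_dvd (by norm_num) hdvd
    omega
  · rw [VU_index_of_quo h, VU_card_d2] at hdvd
    have := Nat.le_of_dvd (by norm_num) hdvd
    omega

/-- two big quotients -/
theorem VU_big_big {Y₁ Y₂ : Type} [Group Y₁] [Group Y₂] (hY₁ : VU_Big Y₁) (hY₂ : VU_Big Y₂)
    {N₁ N₂ : Subgroup G} (h₁ : Quo N₁ Y₁) (h₂ : Quo N₂ Y₂) (hn₁ : N₁.Normal) (hz₁ : IsZ N₁)
    (hn₂ : N₂.Normal) (hz₂ : IsZ N₂) : N₁ = N₂ :=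
  le_antisymm (VU_le_of_big hY₂ h₂ hn₁ hz₁) (VU_le_of_big hY₁ h₁ hn₂ hz₂)

/-- `⊤` against `D₂` is impossible -/
theorem VU_top_d2 (hD : ¬ IsZ (⊤ : Subgroup (DihedralGroup 2))) {N₂ : Subgroup G}
    (hz₁ : IsZ (⊤ : Subgroup G)) (h₂ : Quo N₂ (DihedralGroup 2)) : False := by
  obtain ⟨f, hf, hk⟩ := h₂
  apply hD
  have := VU_isZ_map (⊤ : Subgroup G) f hz₁
  rwa [← MonoidHom.range_eq_map, MonoidHom.range_eq_top.mpr hf] at this

/-- (A4) uniqueness from the concrete facts about the five groups -/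
theorem VU_valid_unique (hU : PU G)
    (hD : ¬ IsZ (⊤ : Subgroup (DihedralGroup 2)))
    (hA4 : VU_Big (alternatingGroup (Fin 4))) (hS4 : VU_Big (Equiv.Perm (Fin 4)))
    (hA5 : VU_Big (alternatingGroup (Fin 5))) (hS5 : VU_Big (Equiv.Perm (Fin 5)))
    {N₁ N₂ : Subgroup G} (h₁ : Valid N₁) (h₂ : Valid N₂) : N₁ = N₂ := by
  obtain ⟨hn₁, hz₁, hc₁⟩ := h₁
  obtain ⟨hn₂, hz₂, hc₂⟩ := h₂
  -- classify each as small or big
  have key : ∀ {N : Subgroup G}, (N = ⊤ ∨ Quo N (DihedralGroup 2) ∨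
      Quo N (alternatingGroup (Fin 4)) ∨ Quo N (Equiv.Perm (Fin 4)) ∨
      Quo N (alternatingGroup (Fin 5)) ∨ Quo N (Equiv.Perm (Fin 5))) →
      (N = ⊤ ∨ Quo N (DihedralGroup 2)) ∨
        ∃ (Y : Type) (_ : Group Y), VU_Big Y ∧ Quo N Y := by
    intro N h
    rcases h with h | h | h | h | h | h
    · exact Or.inl (Or.inl h)
    · exact Or.inl (Or.inr h)
    · exact Or.inr ⟨_, _, hA4, h⟩
    · exact Or.inr ⟨_, _, hS4, h⟩
    · exact Or.inr ⟨_, _, hA5, h⟩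
    · exact Or.inr ⟨_, _, hS5, h⟩
  rcases key hc₁ with s₁ | ⟨Y₁, _, hY₁, q₁⟩ <;> rcases key hc₂ with s₂ | ⟨Y₂, _, hY₂, q₂⟩
  · rcases s₁ with t₁ | d₁ <;> rcases s₂ with t₂ | d₂
    · rw [t₁, t₂]
    · exact (VU_top_d2 hD (t₁ ▸ hz₁) d₂).elim
    · exact (VU_top_d2 hD (t₂ ▸ hz₂) d₁).elim
    · exact unique_of_quo_d2 hU d₁ d₂
  · exact (VU_big_small hY₂ q₂ hn₁ hz₁ s₁).elim
  · exact (VU_big_small hY₁ q₁ hn₂ hz₂ s₂).elim
  · exact VU_big_big hY₁ hY₂ q₁ q₂ hn₁ hz₁ hn₂ hz₂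

end Cfsg.Agent.S4291L
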