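import Mathlib
import Cfsg.Agent.Lib.S4291.Defs
import Cfsg.Agent.Lib.S3358.U1
import Cfsg.Agent.Lib.Zass.StructD

set_option autoImplicit false
set_option linter.style.haveILetI false
set_option linter.unusedVariables false
set_option linter.unusedSectionVars false

namespace Cfsg.Agent.S4291L

open Cfsg.Agent.S3358L Cfsg.Agent.ZassL

universe u

local notation "SL25" => Matrix.SpecialLinearGroup (Fin 2) (ZMod 5)

variable {G : Type u} [Group G] [Finite G]

/-- (B-Z) in a `PU`-group a subgroup with cyclic Sylow 2-subgroups has all Sylow subgroups cyclic -/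
theorem isZ_of_sylow_two (hU : PU G) (N : Subgroup G)
    (h2 : ∀ [Fact (Nat.Prime 2)] (P : Sylow 2 N), IsCyclic P) : IsZ N := by
  intro p hp P
  by_cases hp2 : p = 2
  · subst hp2
    exact h2 P
  · let P' : Subgroup G := ((P : Subgroup N)).map N.subtype
    have hP' : IsPGroup p P' := P.isPGroup'.map N.subtype
    have e : (P : Subgroup N) ≃* P' :=
      Subgroup.equivMapOfInjective _ _ (Subgroup.subtype_injective _)
    rcases U1_pgroup hU p P' hP' with hc | ⟨h2', -⟩
    · exact isCyclic_of_surjective e.symm.toMonoidHom e.symm.surjective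
    · exact absurd h2' hp2

/-- a subgroup whose order is not divisible by 4 has cyclic Sylow 2-subgroups -/
theorem sylow_two_cyclic_of_not_four_dvd (N : Subgroup G) (h4 : ¬ 4 ∣ Nat.card N)
    [Fact (Nat.Prime 2)] (P : Sylow 2 N) : IsCyclic P := by
  obtain ⟨k, hk⟩ := IsPGroup.iff_card.mp P.2
  have hdvd : Nat.card (P : Subgroup N) ∣ Nat.card N := Subgroup.card_subgroup_dvd_card _
  rw [hk] at hdvd
  have hk1 : k ≤ 1 := by
    by_contra hcon
    push Not at hcon
    apply h4
    exact Dvd.dvd.trans (pow_dvd_pow 2 hcon : 2 ^ 2 ∣ 2 ^ k) hdvd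
  interval_cases k
  · have : Subsingleton (P : Subgroup N) := by
      rw [← Finite.card_le_one_iff_subsingleton, hk]
      norm_num
    infer_instance
  · haveI : Fact (Nat.Prime 2) := ⟨Nat.prime_two⟩
    exact isCyclic_of_prime_card (p := 2) (by rw [hk]; norm_num)

end Cfsg.Agent.S4291L
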