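import Mathlib
import Cfsg.Agent.Lib.S4291.BZ
import Cfsg.Agent.Lib.Zass.StructE
import Cfsg.Agent.Lib.Zass.E5

set_option autoImplicit false
set_option linter.style.haveILetI false
set_option linter.unusedVariables false
set_option linter.unusedSectionVars false

namespace Cfsg.Agent.S4291L

open Cfsg.Agent.S3358L Cfsg.Agent.ZassL

universe u

local notation "SL25" => Matrix.SpecialLinearGroup (Fin 2) (ZMod 5)

variable {G : Type u} [Group G] [Finite G]

/-- `Aut (S / Z(S)) ≃* S₅` for `S ≅ SL(2,5)` -/
theorem exists_aut_equiv {S : Type u} [Group S] (e : S ≃* SL25) (hS : commutator S = ⊤) :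
    Nonempty (MulAut (S ⧸ Subgroup.center S) ≃* Equiv.Perm (Fin 5)) := by
  haveI : Finite S := Finite.of_equiv _ e.symm.toEquiv
  have hcard : Nat.card (S ⧸ Subgroup.center S) = 60 := by
    have h1 := Subgroup.card_mul_index (Subgroup.center S)
    rw [ZS_card_S e, ZS_card_center_S e] at h1
    rw [← Subgroup.index_eq_card]
    omega
  have hperf : commutator (S ⧸ Subgroup.center S) = ⊤ := ZE_perfect_quotient hS _
  have hns : ¬ Group.IsSolvable (S ⧸ Subgroup.center S) := by
    intro hsol
    haveI := hsol
    haveI : Nontrivial (S ⧸ Subgroup.center S) := by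
      rw [← Finite.one_lt_card_iff_nontrivial, hcard]
      norm_num
    have := Group.IsSolvable.commutator_lt_top_of_nontrivial (S ⧸ Subgroup.center S)
    rw [hperf] at this
    exact lt_irrefl _ this
  haveI := Cfsg.Agent.S3669.simple_of_not_solvable hcard hns
  obtain ⟨f⟩ := Cfsg.Agent.S0494.result (G := S ⧸ Subgroup.center S) hcard
  have h5 := Cfsg.Agent.S2119.result 5 (by norm_num) (by norm_num)
  exact ⟨(MulAut.congr f).trans (MulEquiv.ofBijective _ h5).symm⟩

end Cfsg.Agent.S4291L

namespace Cfsg.Agent.S4291L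

open Cfsg.Agent.S3358L Cfsg.Agent.ZassL

universe u

local notation "SL25" => Matrix.SpecialLinearGroup (Fin 2) (ZMod 5)

variable {G : Type u} [Group G] [Finite G]

/-- (B-ns) existence around a normal `SL(2,5)` -/
theorem exists_valid_of_normal_sl25 (hU : PU G) (S : Subgroup G) [S.Normal] (e : S ≃* SL25)
    (hS : commutator S = ⊤) : Valid (Subgroup.centralizer (S : Set G)) := by
  classical
  set C := Subgroup.centralizer (S : Set G) with hC
  haveI hCn : C.Normal := by rw [hC]; infer_instance
  obtain ⟨z, hzS, hz, hzC, hall⟩ := ZS_exists_z S e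
  have hl : ∃ l : G, l ∈ S ∧ orderOf l = 4 := by
    obtain ⟨l, hl⟩ := ZS_exists_orderOf_four e
    exact ⟨(l : G), l.2, by rw [Subgroup.orderOf_coe]; exact hl⟩
  have h4 := ZS_not_four_dvd hU S z hzS hz hzC hall hl
  have hZ : IsZ C := isZ_of_sylow_two hU C (fun P => sylow_two_cyclic_of_not_four_dvd C h4 P)
  refine ⟨hCn, hZ, ?_⟩
  obtain ⟨φ⟩ := exists_aut_equiv e hS
  set F : G →* Equiv.Perm (Fin 5) := φ.toMonoidHom.comp (conjQuot S) with hF
  have hker : F.ker = C := by
    rw [hF, hC, ← ZS_ker_conjQuot S hS]
    ext g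
    rw [MonoidHom.mem_ker, MonoidHom.mem_ker, MonoidHom.comp_apply]
    constructor
    · intro h
      exact φ.injective (by rw [map_one]; exact h)
    · intro h
      rw [h]; exact map_one _
  -- the index of `C`
  have hsub : C.subgroupOf S = Subgroup.center S := by
    ext g
    rw [Subgroup.mem_subgroupOf, ZS_mem_center_iff]
  have hrel : C.relIndex (S ⊔ C) = 60 := by
    rw [sup_comm, Subgroup.relIndex_sup_left, Subgroup.relIndex, hsub]
    have h1 := Subgroup.card_mul_index (Subgroup.center S)
    rw [ZS_card_S e, ZS_card_center_S e] at h1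
    omega
  have hmul := Subgroup.relIndex_mul_index (show C ≤ S ⊔ C from le_sup_right)
  rw [hrel] at hmul
  have hrange : Nat.card F.range = C.index := by
    rw [← hker, Subgroup.index_ker]
  have hperm : Nat.card (Equiv.Perm (Fin 5)) = 120 := by
    rw [Nat.card_eq_fintype_card, Fintype.card_perm, Fintype.card_fin]; rfl
  rcases ZS_index S e hS with h1 | h2
  · -- index 60: the image is `A₅`
    right; right; right; right; left
    rw [← hC] at h1
    rw [h1] at hmul
    have hidx : F.range.index = 2 := by
      have := Subgroup.card_mul_index F.range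
      rw [hrange, ← hmul, hperm] at this
      omega
    have hrA : F.range = alternatingGroup (Fin 5) :=
      Equiv.Perm.eq_alternatingGroup_of_index_eq_two hidx
    have hmem : ∀ g : G, F g ∈ alternatingGroup (Fin 5) := by
      intro g
      rw [← hrA]
      exact ⟨g, rfl⟩
    refine ⟨F.codRestrict (alternatingGroup (Fin 5)) hmem, ?_, ?_⟩
    · rintro ⟨y, hy⟩
      rw [← hrA] at hy
      obtain ⟨g, rfl⟩ := hy
      exact ⟨g, rfl⟩
    · rw [← hker]
      ext g
      rw [MonoidHom.mem_ker, MonoidHom.mem_ker]
      constructor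
      · intro h
        exact congrArg Subtype.val h
      · intro h
        exact Subtype.ext h
  · -- index 120: the image is `S₅`
    right; right; right; right; right
    rw [← hC] at h2
    rw [h2] at hmul
    refine ⟨F, ?_, hker⟩
    rw [← MonoidHom.range_eq_top]
    apply Subgroup.eq_top_of_card_eq
    rw [hrange, ← hmul, hperm]

end Cfsg.Agent.S4291L

namespace Cfsg.Agent.S4291L

open Cfsg.Agent.S3358L Cfsg.Agent.ZassL

universe u

variable {G : Type u} [Group G] [Finite G]

/-- (B-ns) -/
theorem exists_valid_of_not_solvable (hZ : TheoremZ.{u}) (hU : PU G) (hfree : HasFreeRep G)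
    (hns : ¬ Group.IsSolvable G) : ∃ N : Subgroup G, Valid N := by
  have hSperf : commutator (pcore G) = ⊤ := commutator_eq_top_of_perfect pcore_perfect
  haveI : Nontrivial (pcore G) := (Subgroup.nontrivial_iff_ne_bot _).mpr (pcore_ne_bot hns)
  obtain ⟨e⟩ := hZ (pcore G) (ZS_hasFreeRep_subgroup (pcore G) hfree) hSperf inferInstance
  exact ⟨_, exists_valid_of_normal_sl25 hU (pcore G) e hSperf⟩

end Cfsg.Agent.S4291L
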