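import Mathlib
import Cfsg.Agent.Lib.S4291.BZ

set_option autoImplicit false
set_option linter.style.haveILetI false
set_option linter.unusedVariables false
set_option linter.unusedSectionVars false

namespace Cfsg.Agent.S4291L

open Cfsg.Agent.S3358L

universe u

variable {G : Type u} [Group G] [Finite G]

/-- (B-Z), comap version: the preimage of a cyclic subgroup of `G ⧸ K`, `K` of odd order, has all
Sylow subgroups cyclic -/
theorem isZ_comap_of_cyclic (hU : PU G) (K : Subgroup G) [K.Normal] (hK : Odd (Nat.card K))
    (X₀ : Subgroup (G ⧸ K)) (hc : IsCyclic X₀) : IsZ (X₀.comap (QuotientGroup.mk' K)) := by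
  suffices h : ∀ (N : Subgroup G), N = X₀.comap (QuotientGroup.mk' K) →
      ∀ [Fact (Nat.Prime 2)] (P : Sylow 2 N), IsCyclic P from
    isZ_of_sylow_two hU _ (fun P => h _ rfl P)
  intro N hN _ P
  have hKcop : (Nat.card K).Coprime 2 := Nat.coprime_two_right.mpr hK
  have hmem : ∀ x : (P : Subgroup N), (QuotientGroup.mk' K ((x : N) : G)) ∈ X₀ := by
    intro x
    have h1 : ((x : N) : G) ∈ N := (x : N).2
    have h2 : N ≤ X₀.comap (QuotientGroup.mk' K) := hN.le
    exact h2 h1
  let φ : (P : Subgroup N) →* X₀ :=
    { toFun := fun x => ⟨QuotientGroup.mk' K ((x : N) : G), hmem x⟩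
      map_one' := by
        apply Subtype.ext
        simp
      map_mul' := by
        intro a b
        apply Subtype.ext
        simp }
  have hφinj : Function.Injective φ := by
    rw [injective_iff_map_eq_one]
    intro x hx
    have h1 : QuotientGroup.mk' K ((x : N) : G) = 1 := by
      have := congrArg Subtype.val hx
      simpa [φ] using this
    have hxK : ((x : N) : G) ∈ K := by
      rw [← QuotientGroup.ker_mk' K, MonoidHom.mem_ker]
      exact h1
    obtain ⟨j, hj⟩ := P.isPGroup' x
    have hj' : (((x : N) : G)) ^ 2 ^ j = 1 := by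
      have := congrArg (fun z : (P : Subgroup N) => ((z : N) : G)) hj
      simpa using this
    have hd1 : orderOf (((x : N) : G)) ∣ 2 ^ j := orderOf_dvd_of_pow_eq_one hj'
    have hd2 : orderOf (((x : N) : G)) ∣ Nat.card K := by
      have := orderOf_dvd_natCard (⟨_, hxK⟩ : K)
      rwa [Subgroup.orderOf_mk] at this
    have hcop : Nat.Coprime (2 ^ j) (Nat.card K) := Nat.Coprime.pow_left j hKcop.symm
    have h1' : orderOf (((x : N) : G)) = 1 := Nat.eq_one_of_dvd_coprimes hcop hd1 hd2
    have : ((x : N) : G) = 1 := orderOf_eq_one_iff.mp h1'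
    apply Subtype.ext
    apply Subtype.ext
    simpa using this
  haveI := hc
  exact isCyclic_of_injective φ hφinj

end Cfsg.Agent.S4291L
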